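import Groth.Agent.Lib.PinchHom4.Basic
import Groth.Agent.Lib.RegImm12.ConormalSeq
import Groth.Agent.Lib.FrameFib8.Basic
import Groth.Agent.Lib.FinCov.FrameFree
import Groth.Agent.Lib.Pushout6.FiniteSet

/-!
# Gluing locally free modules along a pinching
-/

set_option autoImplicit false
set_option linter.style.haveILetI false
set_option backward.isDefEq.respectTransparency false
set_option maxHeartbeats 1000000

universe u

open CategoryTheory CategoryTheory.Limits AlgebraicGeometry Opposite TopologicalSpace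
open GrothLib.InvExt (mres fres)
open GrothLib.FinCov (IsFrame)
open GrothLib.PinchHom4 (le_corner app_corner cmp cmp_pullSect)

noncomputable section

namespace GrothLib.PinchGlue4

variable {X Y Z T : Scheme.{u}} {fX : Z ⟶ X} {fY : Z ⟶ Y} {gX : X ⟶ T} {gY : Y ⟶ T}

theorem isFrame_pullSect {S R : Scheme.{u}} (q : S ⟶ R) (M : R.Modules) [M.IsQuasicoherent] {O : R.Opens}
    {n : ℕ} {f : Fin n → Γ(M, O)} (hf : IsFrame M O f) :
    IsFrame ((Scheme.Modules.pullback q).obj M) (q ⁻¹ᵁ O) fun i => OmegaSh.pullSect q M O (f i) := by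
  intro W hW
  convert DescLocus6.isFrame_pullRes q M hf (le_refl (q ⁻¹ᵁ O)) W hW using 3 with c i
  refine congrArg (fun z => c i • mres _ hW z) ?_
  simp only [CohPullLib.pullRes_def]
  exact (InvExt.mres_self _ _).symm

section glue

variable {LX : X.Modules} {LY : Y.Modules} (hw : fX ≫ gX = fY ≫ gY)
  (σ : (Scheme.Modules.pullback fX).obj LX ≅ (Scheme.Modules.pullback fY).obj LY)

/-- Compatibility of sections. -/
def Comp2 (W : T.Opens) (u : Γ(LX, gX ⁻¹ᵁ W)) (v : Γ(LY, gY ⁻¹ᵁ W)) : Prop :=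
  mres _ (le_corner hw W) (σ.hom.app (fX ⁻¹ᵁ (gX ⁻¹ᵁ W)) (OmegaSh.pullSect fX LX (gX ⁻¹ᵁ W) u)) =
    OmegaSh.pullSect fY LY (gY ⁻¹ᵁ W) v

theorem comp2_mres {W W' : T.Opens} (h : W' ≤ W) {u : Γ(LX, gX ⁻¹ᵁ W)} {v : Γ(LY, gY ⁻¹ᵁ W)}
    (huv : Comp2 hw σ W u v) :
    Comp2 hw σ W' (mres LX (gX.preimage_mono h) u) (mres LY (gY.preimage_mono h) v) := by
  show mres _ _ (σ.hom.app _ (OmegaSh.pullSect fX LX _ (LX.presheaf.map (homOfLE (gX.preimage_mono h)).op u))) =
    OmegaSh.pullSect fY LY _ (LY.presheaf.map (homOfLE (gY.preimage_mono h)).op v)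
  rw [OmegaSh.pullSect_map fX LX (gX.preimage_mono h) u, OmegaSh.pullSect_map fY LY (gY.preimage_mono h) v, ← huv]
  refine (congrArg (mres _ (le_corner hw W')) (Ample.app_mres σ.hom (fX.preimage_mono (gX.preimage_mono h)) _)).trans ?_
  exact (InvExt.mres_mres _ _ _ _).trans (InvExt.mres_mres _ _ _ _).symm

/-- The first leg. -/
def α : (Scheme.Modules.pushforward gX).obj LX ⟶
    (Scheme.Modules.pushforward (fY ≫ gY)).obj ((Scheme.Modules.pullback fY).obj LY) :=
  (Scheme.Modules.pushforward gX).map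
      ((Scheme.Modules.pullbackPushforwardAdjunction fX).unit.app LX ≫ (Scheme.Modules.pushforward fX).map σ.hom) ≫
    (Scheme.Modules.pushforwardComp fX gX).hom.app ((Scheme.Modules.pullback fY).obj LY) ≫
    (Scheme.Modules.pushforwardCongr hw).hom.app ((Scheme.Modules.pullback fY).obj LY)

/-- The second leg. -/
def β : (Scheme.Modules.pushforward gY).obj LY ⟶
    (Scheme.Modules.pushforward (fY ≫ gY)).obj ((Scheme.Modules.pullback fY).obj LY) :=
  (Scheme.Modules.pushforward gY).map ((Scheme.Modules.pullbackPushforwardAdjunction fY).unit.app LY) ≫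
    (Scheme.Modules.pushforwardComp fY gY).hom.app ((Scheme.Modules.pullback fY).obj LY)

/-- The glued module. -/
def M : T.Modules := Limits.pullback (α hw σ) (β (fY := fY) (gY := gY) (LY := LY))

/-- The first projection. -/
def pX : M hw σ ⟶ (Scheme.Modules.pushforward gX).obj LX := pullback.fst _ _

/-- The second projection. -/
def pY : M hw σ ⟶ (Scheme.Modules.pushforward gY).obj LY := pullback.snd _ _

theorem α_app (W : T.Opens) (u : Γ(LX, gX ⁻¹ᵁ W)) :
    (α hw σ).app W u =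
      mres _ (le_corner hw W) (σ.hom.app (fX ⁻¹ᵁ (gX ⁻¹ᵁ W)) (OmegaSh.pullSect fX LX (gX ⁻¹ᵁ W) u)) := rfl

theorem β_app (W : T.Opens) (v : Γ(LY, gY ⁻¹ᵁ W)) :
    (β (fY := fY) (gY := gY) (LY := LY)).app W v = OmegaSh.pullSect fY LY (gY ⁻¹ᵁ W) v := rfl

theorem sections_M (W : T.Opens) :
    (∀ m m' : Γ(M hw σ, W), (pX hw σ).app W m = (pX hw σ).app W m' →
        (pY hw σ).app W m = (pY hw σ).app W m' → m = m') ∧
    (∀ u v, Comp2 hw σ W u v → ∃ m : Γ(M hw σ, W), (pX hw σ).app W m = u ∧ (pY hw σ).app W m = v) ∧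
    (∀ m : Γ(M hw σ, W), Comp2 hw σ W ((pX hw σ).app W m) ((pY hw σ).app W m)) := by
  have h1 := (((IsPullback.of_hasPullback (α hw σ) (β (fY := fY) (gY := gY) (LY := LY))).map
    (Scheme.Modules.toPresheaf T)).map ((evaluation (T.Opensᵒᵖ) Ab.{u}).obj (op W))).map (CategoryTheory.forget Ab.{u})
  obtain ⟨hc, hi, he⟩ := (Types.isPullback_iff _ _ _ _).1 h1
  refine ⟨fun m m' hx hy => hi m m' ⟨hx, hy⟩, fun u v huv => he u v huv, fun m => ?_⟩
  exact ConcreteCategory.congr_hom (congrArg (fun k => Scheme.Modules.Hom.app k W)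
    (pullback.condition (f := α hw σ) (g := β (fY := fY) (gY := gY) (LY := LY)))) m

/-- The comparison with the first piece. -/
def eX : (Scheme.Modules.pullback gX).obj (M hw σ) ⟶ LX :=
  ((Scheme.Modules.pullbackPushforwardAdjunction gX).homEquiv _ _).symm (pX hw σ)

/-- The comparison with the second piece. -/
def eY : (Scheme.Modules.pullback gY).obj (M hw σ) ⟶ LY :=
  ((Scheme.Modules.pullbackPushforwardAdjunction gY).homEquiv _ _).symm (pY hw σ)

theorem eX_pullSect (W : T.Opens) (m : Γ(M hw σ, W)) :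
    (eX hw σ).app (gX ⁻¹ᵁ W) (OmegaSh.pullSect gX (M hw σ) W m) = (pX hw σ).app W m := by
  have h := ((Scheme.Modules.pullbackPushforwardAdjunction gX).homEquiv (M hw σ) LX).apply_symm_apply (pX hw σ)
  rw [Adjunction.homEquiv_unit] at h
  exact congrArg (fun k : M hw σ ⟶ (Scheme.Modules.pushforward gX).obj LX => k.app W m) h

theorem eY_pullSect (W : T.Opens) (m : Γ(M hw σ, W)) :
    (eY hw σ).app (gY ⁻¹ᵁ W) (OmegaSh.pullSect gY (M hw σ) W m) = (pY hw σ).app W m := by
  have h := ((Scheme.Modules.pullbackPushforwardAdjunction gY).homEquiv (M hw σ) LY).apply_symm_apply (pY hw σ)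
  rw [Adjunction.homEquiv_unit] at h
  exact congrArg (fun k : M hw σ ⟶ (Scheme.Modules.pushforward gY).obj LY => k.app W m) h

theorem eq_cmp :
    (Scheme.Modules.pullback fX).map (eX hw σ) ≫ σ.hom =
      (cmp hw (M hw σ)).hom ≫ (Scheme.Modules.pullback fY).map (eY hw σ) := by
  rw [← cancel_epi ((Scheme.Modules.pullbackComp fX gX).inv.app (M hw σ))]
  refine PPGen.hom_ext_pullSect (fX ≫ gX) _ _ fun W m => ?_
  show σ.hom.app _ (((Scheme.Modules.pullback fX).map (eX hw σ)).app _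
      (((Scheme.Modules.pullbackComp fX gX).inv.app (M hw σ)).app _ (OmegaSh.pullSect (fX ≫ gX) (M hw σ) W m))) =
    ((Scheme.Modules.pullback fY).map (eY hw σ)).app _ ((cmp hw (M hw σ)).hom.app _
      (((Scheme.Modules.pullbackComp fX gX).inv.app (M hw σ)).app _ (OmegaSh.pullSect (fX ≫ gX) (M hw σ) W m)))
  have hopen : fX ⁻¹ᵁ (gX ⁻¹ᵁ W) ≤ fY ⁻¹ᵁ (gY ⁻¹ᵁ W) :=
    le_of_eq (by rw [← Scheme.Hom.comp_preimage, hw, Scheme.Hom.comp_preimage])
  have h1 := GrBC.pullbackComp_inv_pullSect fX gX (M hw σ) W m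
  refine (congrArg (fun z => σ.hom.app (fX ⁻¹ᵁ (gX ⁻¹ᵁ W))
    (((Scheme.Modules.pullback fX).map (eX hw σ)).app (fX ⁻¹ᵁ (gX ⁻¹ᵁ W)) z)) h1).trans ?_
  refine Eq.trans ?_ (congrArg (fun z => ((Scheme.Modules.pullback fY).map (eY hw σ)).app (fX ⁻¹ᵁ (gX ⁻¹ᵁ W))
    ((cmp hw (M hw σ)).hom.app (fX ⁻¹ᵁ (gX ⁻¹ᵁ W)) z)) h1).symm
  rw [GrBC.pullback_map_pullSect, eX_pullSect]
  have hinj : Function.Injective (mres ((Scheme.Modules.pullback fY).obj LY) (le_corner hw W)) := fun a b e => by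
    have e' := congrArg (mres ((Scheme.Modules.pullback fY).obj LY) hopen) e
    rwa [InvExt.mres_mres, InvExt.mres_mres, InvExt.mres_self, InvExt.mres_self] at e'
  refine hinj ((((sections_M hw σ W).2.2 m).trans ?_))
  rw [← eY_pullSect, ← GrBC.pullback_map_pullSect fY (eY hw σ), ← cmp_pullSect hw (M hw σ) W m]
  exact Ample.app_mres ((Scheme.Modules.pullback fY).map (eY hw σ)) (le_corner hw W) _

variable (hpo : IsPushout ((Scheme.forgetToLocallyRingedSpace ⋙ LocallyRingedSpace.forgetToSheafedSpace).map fX)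
  ((Scheme.forgetToLocallyRingedSpace ⋙ LocallyRingedSpace.forgetToSheafedSpace).map fY)
  ((Scheme.forgetToLocallyRingedSpace ⋙ LocallyRingedSpace.forgetToSheafedSpace).map gX)
  ((Scheme.forgetToLocallyRingedSpace ⋙ LocallyRingedSpace.forgetToSheafedSpace).map gY))

include hpo

theorem exists_frame [LY.IsQuasicoherent] {V : T.Opens} {n : ℕ} {s : Fin n → Γ(LX, gX ⁻¹ᵁ V)}
    {t : Fin n → Γ(LY, gY ⁻¹ᵁ V)} (hs : IsFrame LX (gX ⁻¹ᵁ V) s) (ht : IsFrame LY (gY ⁻¹ᵁ V) t)
    (hst : ∀ i, Comp2 hw σ V (s i) (t i)) :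
    ∃ m : Fin n → Γ(M hw σ, V), IsFrame (M hw σ) V m ∧
      (∀ i, (pX hw σ).app V (m i) = s i) ∧ (∀ i, (pY hw σ).app V (m i) = t i) := by
  classical
  choose m hmX hmY using fun i => (sections_M hw σ V).2.1 _ _ (hst i)
  refine ⟨m, fun W hW => ?_, hmX, hmY⟩
  have hX := hs (gX ⁻¹ᵁ W) (gX.preimage_mono hW)
  have hY := ht (gY ⁻¹ᵁ W) (gY.preimage_mono hW)
  have hZ := (isFrame_pullSect fY LY ht) (fY ⁻¹ᵁ (gY ⁻¹ᵁ W)) (fY.preimage_mono (gY.preimage_mono hW))
  have eXc : ∀ c : Fin n → Γ(T, W), (pX hw σ).app W (∑ i, c i • mres (M hw σ) hW (m i)) =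
      ∑ i, gX.app W (c i) • mres LX (gX.preimage_mono hW) (s i) := fun c => by
    rw [map_sum]
    refine Finset.sum_congr rfl fun i _ => ?_
    rw [Scheme.Modules.Hom.app_smul, Ample.app_mres, hmX]
    rfl
  have eYc : ∀ c : Fin n → Γ(T, W), (pY hw σ).app W (∑ i, c i • mres (M hw σ) hW (m i)) =
      ∑ i, gY.app W (c i) • mres LY (gY.preimage_mono hW) (t i) := fun c => by
    rw [map_sum]
    refine Finset.sum_congr rfl fun i _ => ?_
    rw [Scheme.Modules.Hom.app_smul, Ample.app_mres, hmY]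
    rfl
  refine ⟨fun c c' e => ?_, fun z => ?_⟩
  · have ex := congrArg ((pX hw σ).app W) e
    have ey := congrArg ((pY hw σ).app W) e
    have ex' := hX.1 ((eXc c).symm.trans (ex.trans (eXc c')))
    have ey' := hY.1 ((eYc c).symm.trans (ey.trans (eYc c')))
    funext i
    obtain ⟨r, -, hr⟩ := RingedPush4.existsUnique_section_scheme hpo hw W (gX.app W (c i)) (gY.app W (c i)) (by
      refine Eq.trans ?_ (app_corner hw W (c i))
      exact congrArg (fun m => Z.presheaf.map m (fX.app _ (gX.app W (c i)))) (Subsingleton.elim _ _))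
    exact (hr (c i) ⟨rfl, rfl⟩).trans (hr (c' i) ⟨(congrFun ex' i).symm, (congrFun ey' i).symm⟩).symm
  · obtain ⟨a, ha⟩ := hX.2 ((pX hw σ).app W z)
    obtain ⟨b, hb⟩ := hY.2 ((pY hw σ).app W z)
    have huv := (sections_M hw σ W).2.2 z
    rw [← ha, ← hb] at huv
    have key : ∀ i, fres Z (le_corner hw W) (fX.app _ (a i)) = fY.app _ (b i) := by
      refine congrFun (hZ.1 ?_)
      have hm : ∀ i, mres _ (fY.preimage_mono (gY.preimage_mono hW)) (OmegaSh.pullSect fY LY (gY ⁻¹ᵁ V) (t i)) =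
          OmegaSh.pullSect fY LY (gY ⁻¹ᵁ W) (mres LY (gY.preimage_mono hW) (t i)) := fun i =>
        (OmegaSh.pullSect_map fY LY (gY.preimage_mono hW) (t i)).symm
      show ∑ i, _ • mres _ (fY.preimage_mono (gY.preimage_mono hW)) _ =
        ∑ i, _ • mres _ (fY.preimage_mono (gY.preimage_mono hW)) _
      simp only [hm]
      simp only [Comp2, map_sum, OmegaSh.pullSect_smul, Scheme.Modules.Hom.app_smul] at huv
      refine Eq.trans ?_ huv
      refine Finset.sum_congr rfl fun i _ => ?_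
      refine Eq.trans ?_ (InvExt.mres_smul _ _ _ _).symm
      exact congrArg _ (comp2_mres hw σ hW (hst i)).symm
    have hc : ∀ i, ∃ c : Γ(T, W), gX.app W c = a i ∧ gY.app W c = b i := fun i => by
      obtain ⟨c, hc, -⟩ := RingedPush4.existsUnique_section_scheme hpo hw W (a i) (b i) (by
        refine Eq.trans ?_ (key i)
        exact congrArg (fun m => Z.presheaf.map m (fX.app _ (a i))) (Subsingleton.elim _ _))
      exact ⟨c, hc⟩
    choose c hcx hcy using hc
    refine ⟨c, (sections_M hw σ W).1 _ _ ?_ ?_⟩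
    · refine (eXc c).trans (Eq.trans ?_ ha)
      simp only [hcx]
    · refine (eYc c).trans (Eq.trans ?_ hb)
      simp only [hcy]

theorem mem_range_of_eq (hiX : Function.Injective fX.base) {a : X} {y : Y} (h : gX.base a = gY.base y) :
    ∃ z, fX.base z = a ∧ fY.base z = y :=
  (Types.pushoutCocone_inl_eq_inr_iff_of_isColimit
    (hpo.map (SheafedSpace.forget CommRingCat.{u} ⋙ CategoryTheory.forget TopCat.{u})).isColimit hiX a y).1 h

theorem exists_glued [IsClosedImmersion fX] [IsClosedImmersion gY] [IsFinite fY] [IsFinite gX]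
    (hAF : ∀ y : Y, ∃ U : X.Opens, IsAffineOpen U ∧ ∀ z : Z, fY.base z = y → fX.base z ∈ U)
    (U : T.Opens) (hU : (U : Set T) = (Set.range gY.base)ᶜ) (hiso : IsIso (gX ∣_ U))
    (n : ℕ) (hLX : FlatMod.IsFinLocFreeOfRank n LX) (hLY : FlatMod.IsFinLocFreeOfRank n LY) :
    FlatMod.IsFinLocFreeOfRank n (M hw σ) ∧ IsIso (eX hw σ) ∧ IsIso (eY hw σ) := by
  classical
  haveI := Euler.isQuasicoherent_of_isFinLocFree (FinCov.isFinLocFree_of_rank hLX)
  haveI := Euler.isQuasicoherent_of_isFinLocFree (FinCov.isFinLocFree_of_rank hLY)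
  have main : ∀ x : T, ∃ (V : T.Opens) (s : Fin n → Γ(LX, gX ⁻¹ᵁ V)) (t : Fin n → Γ(LY, gY ⁻¹ᵁ V)),
      x ∈ V ∧ IsFrame LX (gX ⁻¹ᵁ V) s ∧ IsFrame LY (gY ⁻¹ᵁ V) t ∧ ∀ i, Comp2 hw σ V (s i) (t i) := by
    intro x
    have hclosed : ∀ O : X.Opens, IsClosed (gX.base '' ((O : Set X)ᶜ)) := fun O =>
      gX.isClosedMap _ O.isOpen.isClosed_compl
    by_cases hx : x ∈ Set.range gY.base
    · obtain ⟨y, rfl⟩ := hx
      obtain ⟨O, t₀, hyO, ht₀⟩ := FinCov.exists_frame_nhd_of_rank hLY y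
      obtain ⟨V0s, hV0o, hV0⟩ := gY.isClosedEmbedding.isInducing.isOpen_iff.1 O.isOpen
      let V0 : T.Opens := ⟨V0s, hV0o⟩
      have hOV : gY ⁻¹ᵁ V0 ≤ O := fun w hw' => hV0.subset hw'
      have hyV0 : gY.base y ∈ V0 := hV0.superset hyO
      let t := fun i => mres LY hOV (t₀ i)
      have ht : IsFrame LY (gY ⁻¹ᵁ V0) t := IntFree6.isFrame_mres ht₀ hOV
      obtain ⟨Ua, hUa, hfib⟩ := hAF y
      let E : Set X := fX.base '' (fY.base ⁻¹' {y})
      have hEfin : E.Finite := (fY.finite_preimage_singleton y).image _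
      have hEU : E ⊆ (Ua : Set X) := by rintro _ ⟨z, hz, rfl⟩; exact hfib z hz
      have hEV : E ⊆ ((gX ⁻¹ᵁ V0 : X.Opens) : Set X) := by
        rintro _ ⟨z, hz, rfl⟩
        show gX.base (fX.base z) ∈ V0
        have h1 : gX.base (fX.base z) = gY.base (fY.base z) := congrArg (fun k : Z ⟶ T => k.base z) hw
        rw [h1, show fY.base z = y from hz]
        exact hyV0
      obtain ⟨r, hrV, hrE⟩ := Pushout6.exists_basicOpen_of_finite hUa hEfin hEU hEV
      let U' := X.basicOpen r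
      have hU' : IsAffineOpen U' := hUa.basicOpen r
      have hle : fX ⁻¹ᵁ U' ≤ fY ⁻¹ᵁ (gY ⁻¹ᵁ V0) :=
        (fX.preimage_mono hrV).trans (le_of_eq (by rw [← Scheme.Hom.comp_preimage, hw, Scheme.Hom.comp_preimage]))
      let w := fun i => σ.inv.app (fX ⁻¹ᵁ U') (mres _ hle (OmegaSh.pullSect fY LY (gY ⁻¹ᵁ V0) (t i)))
      have hwf : IsFrame ((Scheme.Modules.pullback fX).obj LX) (fX ⁻¹ᵁ U') w :=
        DescLocus6.isFrame_map σ.inv (IntFree6.isFrame_mres (isFrame_pullSect fY LY ht) hle)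
      choose s₀ hs₀ using fun i => (RegImm12.pullSect_surjective_and_ker fX hU' (hU'.preimage fX)
        (fX.app_surjective U' hU') LX).1 (w i)
      let WS : X.Opens := sSup {O : X.Opens | ∃ h : O ≤ U', IsFrame LX O fun i => mres LX h (s₀ i)}
      have hWS : WS ≤ U' := sSup_le fun O hO => hO.1
      have hfr : IsFrame LX WS fun i => mres LX hWS (s₀ i) := by
        refine DescLocus6.isFrame_of_local fun p hp => ?_
        obtain ⟨O, ⟨hO, hOf⟩, hpO⟩ := Opens.mem_sSup.1 hp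
        refine ⟨O, le_sSup ⟨hO, hOf⟩, hpO, ?_⟩
        simp only [InvExt.mres_mres]
        exact hOf
      have hEW : E ⊆ (WS : Set X) := by
        rintro _ ⟨z, hz, rfl⟩
        obtain ⟨O₁, e, hpO, he⟩ := FinCov.exists_frame_nhd_of_rank hLX (fX.base z)
        let O := O₁ ⊓ U'
        have hpU : fX.base z ∈ U' := hrE ⟨z, hz, rfl⟩
        have heO := IntFree6.isFrame_mres he (inf_le_left : O ≤ O₁)
        obtain ⟨C, hC⟩ := DescLocus6.exists_matrix heO fun i => mres LX (inf_le_right : O ≤ U') (s₀ i)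
        have h1 := isFrame_pullSect fX LX heO
        have h2 : IsFrame ((Scheme.Modules.pullback fX).obj LX) (fX ⁻¹ᵁ O)
            fun i => OmegaSh.pullSect fX LX O (mres LX (inf_le_right : O ≤ U') (s₀ i)) := by
          convert IntFree6.isFrame_mres hwf (fX.preimage_mono (inf_le_right : O ≤ U')) using 2 with i
          rw [← hs₀ i]
          exact OmegaSh.pullSect_map fX LX inf_le_right (s₀ i)
        have h3 := DescLocus6.isUnit_det_of_frames h1 h2 (C.map (fX.app O)) fun i => by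
          rw [hC i, map_sum]
          exact Finset.sum_congr rfl fun j _ => OmegaSh.pullSect_smul fX LX O _ _
        have h4 : fX.base z ∈ X.basicOpen C.det := by
          have h5 : z ∈ Z.basicOpen (fX.app O C.det) := by
            rw [Scheme.basicOpen_of_isUnit _ (by
              rw [show fX.app O C.det = (fX.app O).hom C.det from rfl, RingHom.map_det]; exact h3)]
            exact ⟨hpO, hpU⟩
          rw [← Scheme.preimage_basicOpen] at h5
          exact h5
        have hb : X.basicOpen C.det ≤ O := X.basicOpen_le _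
        refine Opens.mem_sSup.2 ⟨X.basicOpen C.det, ⟨hb.trans inf_le_right, ?_⟩, h4⟩
        refine FrameFib8.isFrame_of_isUnit_det hb heO (C.map (X.presheaf.map (homOfLE hb).op).hom) ?_ fun i => ?_
        · rw [show C.map _ = RingHom.mapMatrix (X.presheaf.map (homOfLE hb).op).hom C from rfl, ← RingHom.map_det]
          exact RingedSpace.isUnit_res_basicOpen _ C.det
        · rw [← InvExt.mres_mres LX (inf_le_right : O ≤ U') hb, hC i]
          exact (map_sum (LX.presheaf.map (homOfLE hb).op).hom _ _).trans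
            (Finset.sum_congr rfl fun j _ => InvExt.mres_smul _ _ _ _)
      let V : T.Opens := V0 ⊓ ⟨(gX.base '' ((WS : Set X)ᶜ))ᶜ, (hclosed WS).isOpen_compl⟩
      have hVW : gX ⁻¹ᵁ V ≤ WS := fun p hp => by
        by_contra hn
        exact hp.2 ⟨p, hn, rfl⟩
      have hV0' : V ≤ V0 := inf_le_left
      refine ⟨V, fun i => mres LX (hVW.trans hWS) (s₀ i), fun i => mres LY (gY.preimage_mono hV0') (t i),
        ⟨hyV0, ?_⟩, ?_, IntFree6.isFrame_mres ht _, fun i => ?_⟩
      · rintro ⟨p, hp, he⟩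
        obtain ⟨z, hz1, hz2⟩ := mem_range_of_eq hpo fX.isClosedEmbedding.injective he
        exact hp (hEW ⟨z, hz2, hz1⟩)
      · have := IntFree6.isFrame_mres hfr hVW
        simpa only [InvExt.mres_mres] using this
      · show mres _ _ (σ.hom.app _ (OmegaSh.pullSect fX LX _ (LX.presheaf.map (homOfLE (hVW.trans hWS)).op (s₀ i)))) =
          OmegaSh.pullSect fY LY _ (LY.presheaf.map (homOfLE (gY.preimage_mono hV0')).op (t i))
        rw [OmegaSh.pullSect_map fX LX (hVW.trans hWS) (s₀ i), OmegaSh.pullSect_map fY LY (gY.preimage_mono hV0') (t i), hs₀ i]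
        refine (congrArg (mres _ (le_corner hw V)) (Ample.app_mres σ.hom (fX.preimage_mono (hVW.trans hWS)) _)).trans ?_
        have e : σ.hom.app (fX ⁻¹ᵁ U') (w i) = mres _ hle (OmegaSh.pullSect fY LY (gY ⁻¹ᵁ V0) (t i)) := by
          show (σ.inv ≫ σ.hom).app (fX ⁻¹ᵁ U') _ = _
          rw [σ.inv_hom_id]
          rfl
        rw [e]
        exact (InvExt.mres_mres _ _ _ _).trans (InvExt.mres_mres _ _ _ _)
    · have hxU : x ∈ U := by show x ∈ (U : Set T); rw [hU]; exact hx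
      obtain ⟨a, ha⟩ := (gX ∣_ U).homeomorph.surjective ⟨x, hxU⟩
      obtain ⟨O, s₀, haO, hs₀⟩ := FinCov.exists_frame_nhd_of_rank hLX ((gX ⁻¹ᵁ U).ι.base a)
      let V : T.Opens := U ⊓ ⟨(gX.base '' ((O : Set X)ᶜ))ᶜ, (hclosed O).isOpen_compl⟩
      have hVO : gX ⁻¹ᵁ V ≤ O := fun p hp => by
        by_contra hn
        exact hp.2 ⟨p, hn, rfl⟩
      have hempty : gY ⁻¹ᵁ V = ⊥ := eq_bot_iff.2 fun w hw' => by
        have h1 : gY.base w ∈ (U : Set T) := hw'.1
        rw [hU] at h1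
        exact (h1 ⟨w, rfl⟩).elim
      refine ⟨V, fun i => mres LX hVO (s₀ i), fun _ => 0, ⟨hxU, ?_⟩, IntFree6.isFrame_mres hs₀ hVO, ?_, fun i => ?_⟩
      · rintro ⟨p, hp, he⟩
        refine hp ?_
        have hpU : p ∈ gX ⁻¹ᵁ U := by show gX.base p ∈ U; rw [he]; exact hxU
        have : (⟨p, hpU⟩ : ↥(gX ⁻¹ᵁ U)) = a := (gX ∣_ U).homeomorph.injective (by
          rw [ha]; exact Subtype.ext ((morphismRestrict_base_coe gX U _).trans he))
        rw [← this] at haO
        exact haO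
      · exact DescLocus6.isFrame_of_local fun w hw' => absurd (hempty ▸ hw') (by simp)
      · haveI : Subsingleton Γ((Scheme.Modules.pullback fY).obj LY, fY ⁻¹ᵁ (gY ⁻¹ᵁ V)) :=
          InvExt.subsingleton_sections_of_eq_bot _ (by rw [hempty]; rfl)
        exact Subsingleton.elim _ _
  choose V s t hxV hs ht hst using main
  choose m hm hmX hmY using fun x => exists_frame hw σ hpo (hs x) (ht x) (hst x)
  haveI : (M hw σ).IsQuasicoherent := Euler.isQuasicoherent_of_isFinLocFree (FinCov.isFinLocFree_of_rank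
    (fun x => ⟨V x, hxV x, FinCov.exists_iso_of_frame (hm x)⟩ : FlatMod.IsFinLocFreeOfRank n (M hw σ)))
  refine ⟨fun x => ⟨V x, hxV x, FinCov.exists_iso_of_frame (hm x)⟩, DescLocus6.isIso_of_frames _ fun p => ?_,
    DescLocus6.isIso_of_frames _ fun p => ?_⟩
  · refine ⟨gX ⁻¹ᵁ V (gX.base p), n, _, hxV (gX.base p), isFrame_pullSect gX _ (hm _), ?_⟩
    simp only [eX_pullSect, hmX]
    exact hs _
  · refine ⟨gY ⁻¹ᵁ V (gY.base p), n, _, hxV (gY.base p), isFrame_pullSect gY _ (hm _), ?_⟩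
    simp only [eY_pullSect, hmY]
    exact ht _

end glue

end GrothLib.PinchGlue4
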